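import Cfsg.Agent.H917.FP.Strong
import Cfsg.Agent.S0269
import Cfsg.Agent.S0270
import Cfsg.Agent.S0271
import Cfsg.Agent.LieClassical.OrthFinite
import Cfsg.Agent.LieClassical.OrthForms
import Cfsg.Agent.LieClassical.HermPerfect
import Cfsg.Agent.LieClassical.HermCount
import Cfsg.Agent.LieClassical.GUOrder

/-!
# S5717: the facts (a) normal subgroups, (b) least orbit lengths, (c) `supp = 0` for Sp, SU, Omega (helper847)

`facts_sp`, `facts_su`, `facts_oodd`, `facts_oplus`, `facts_ominus : Facts M m`; `Facts.long`, `Facts.norm'`, `Facts.supp_ne`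
give them in the shape of `H917.FP.strong_all`; `spHom`, `suHom`, `omHom` are the monoid homomorphisms.
-/

set_option autoImplicit false

namespace Cfsg.Agent.H847.BSF

section Gen

open Matrix Subgroup
open scoped commutatorElement
open Cfsg.Agent.H254.BS.PI (supp)

/-- (a), (b), (c) for a matrix group -/
structure Facts (M : Type) [Group M] {ι : Type} [Fintype ι] [DecidableEq ι] {F : Type} [Field F] [Fintype F]
    (m : M → Matrix ι ι F) : Prop where
  norm : ∀ N : Subgroup M, N.Normal → N ≤ Subgroup.center M ∨ N = ⊤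
  col : ∀ v : ι → F, v ≠ 0 →
    (Fintype.card F) ^ (Fintype.card ι) ≤ (Nat.card {w : ι → F // ∃ x : M, m x *ᵥ v = w}) ^ 4
  row : ∀ v : ι → F, v ≠ 0 →
    (Fintype.card F) ^ (Fintype.card ι) ≤ (Nat.card {w : ι → F // ∃ x : M, v ᵥ* m x = w}) ^ 4
  cen : ∀ x : M, supp (m x) = 0 → x ∈ Subgroup.center M

theorem norm_of_simple {M : Type} [Group M] (hp : commutator M = ⊤) (hs : IsSimpleGroup (M ⧸ Subgroup.center M))
    (N : Subgroup M) (hN : N.Normal) : N ≤ Subgroup.center M ∨ N = ⊤ := by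
  have h1 : (N.map (QuotientGroup.mk' (Subgroup.center M))).Normal :=
    hN.map _ (QuotientGroup.mk'_surjective _)
  rcases h1.eq_bot_or_eq_top with h | h
  · left
    rw [Subgroup.map_eq_bot_iff, QuotientGroup.ker_mk'] at h
    exact h
  · right
    have h2 : ∀ x : M, ∃ n ∈ N, ∃ z ∈ Subgroup.center M, x = n * z := by
      intro x
      have h3 : QuotientGroup.mk' (Subgroup.center M) x ∈ N.map (QuotientGroup.mk' (Subgroup.center M)) := by
        rw [h]; trivial
      obtain ⟨n, hn, hnx⟩ := h3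
      refine ⟨n, hn, n⁻¹ * x, ?_, by group⟩
      exact QuotientGroup.eq.1 hnx
    rw [eq_top_iff, ← hp, commutator_def, Subgroup.commutator_le]
    intro a _ b _
    obtain ⟨n, hn, z, hz, rfl⟩ := h2 a
    obtain ⟨n', hn', z', hz', rfl⟩ := h2 b
    have hz1 := Subgroup.mem_center_iff.1 hz
    have hz2 := Subgroup.mem_center_iff.1 hz'
    have h4 : ⁅n * z, n' * z'⁆ = ⁅n, n'⁆ := by
      rw [commutatorElement_def, commutatorElement_def, _root_.mul_inv_rev, _root_.mul_inv_rev]
      calc n * z * (n' * z') * (z⁻¹ * n⁻¹) * (z'⁻¹ * n'⁻¹)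
          = n * (z * (n' * z')) * z⁻¹ * n⁻¹ * z'⁻¹ * n'⁻¹ := by group
        _ = n * ((n' * z') * z) * z⁻¹ * n⁻¹ * z'⁻¹ * n'⁻¹ := by rw [← hz1]
        _ = n * n' * (z' * n⁻¹) * z'⁻¹ * n'⁻¹ := by group
        _ = n * n' * (n⁻¹ * z') * z'⁻¹ * n'⁻¹ := by rw [← hz2]
        _ = n * n' * n⁻¹ * n'⁻¹ := by group
    rw [h4]
    exact N.mul_mem (N.mul_mem (N.mul_mem hn hn') (N.inv_mem hn)) (N.inv_mem hn')

theorem scalar_of_supp {ι : Type} [Fintype ι] [DecidableEq ι] {F : Type} [Field F] (A : Matrix ι ι F)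
    (h : supp A = 0) : ∃ μ : F, A = Matrix.scalar ι μ := by
  have h1 : supp A ∈ Set.range fun μ : F => (A - Matrix.scalar ι μ).rank := Nat.sInf_mem ⟨_, ⟨0, rfl⟩⟩
  rw [h] at h1
  obtain ⟨μ, hμ⟩ := h1
  refine ⟨μ, sub_eq_zero.1 ?_⟩
  have hμ' : (A - Matrix.scalar ι μ).rank = 0 := hμ
  rw [Matrix.rank, Submodule.finrank_eq_zero, LinearMap.range_eq_bot] at hμ'
  ext i j
  have h2 := congrFun (LinearMap.congr_fun hμ' (Pi.single j 1)) i
  rw [Matrix.mulVecLin_apply, Matrix.mulVec_single_one] at h2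
  exact h2

theorem cen_of_inj {M : Type} [Group M] {ι : Type} [Fintype ι] [DecidableEq ι] {F : Type} [Field F]
    {m : M → Matrix ι ι F} (hinj : Function.Injective m) (hmul : ∀ x y, m (x * y) = m x * m y) (x : M)
    (hx : supp (m x) = 0) : x ∈ Subgroup.center M := by
  obtain ⟨μ, hμ⟩ := scalar_of_supp _ hx
  rw [Subgroup.mem_center_iff]
  intro g
  apply hinj
  rw [hmul, hmul, hμ]
  exact (Matrix.scalar_commute μ (fun r => Commute.all _ _) (m g)).symm.eq

/-- row orbits from column orbits -/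
theorem row_of_col {M : Type} [Group M] {ι : Type} [Fintype ι] [DecidableEq ι] {F : Type} [Field F] [Fintype F]
    {m : M → Matrix ι ι F} (Θ : (ι → F) → (ι → F)) (hb : Function.Bijective Θ) (h0 : Θ 0 = 0)
    (hΘ : ∀ (x : M) (v : ι → F), Θ v ᵥ* m x = Θ (m x⁻¹ *ᵥ v)) {k : ℕ}
    (hcol : ∀ v : ι → F, v ≠ 0 → k ≤ (Nat.card {w : ι → F // ∃ x : M, m x *ᵥ v = w}) ^ 4) (v : ι → F) (hv : v ≠ 0) :
    k ≤ (Nat.card {w : ι → F // ∃ x : M, v ᵥ* m x = w}) ^ 4 := by
  obtain ⟨u, rfl⟩ := hb.2 v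
  have hu : u ≠ 0 := by rintro rfl; exact hv h0
  refine (hcol u hu).trans (Nat.pow_le_pow_left ?_ 4)
  refine Nat.card_le_card_of_injective
    (fun w : {w : ι → F // ∃ x : M, m x *ᵥ u = w} =>
      (⟨Θ w.1, by obtain ⟨x, hx⟩ := w.2; exact ⟨x⁻¹, by rw [hΘ, inv_inv, hx]⟩⟩ :
        {w : ι → F // ∃ x : M, Θ u ᵥ* m x = w})) ?_
  intro a b hab
  exact Subtype.ext (hb.1 (congrArg Subtype.val hab))

end Gen

section Sp

open Matrix Subgroup
open Cfsg.Agent.H254.BS.PI (supp)

theorem pow_four_ge {x : ℕ} (hx : 3 ≤ x) : x ≤ (x - 1) ^ 4 := by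
  obtain ⟨y, rfl⟩ := Nat.exists_eq_add_of_le hx
  have h1 : 3 + y - 1 = y + 2 := by omega
  rw [h1]
  have h2 : (y + 2) ^ 1 ≤ (y + 2) ^ 4 := Nat.pow_le_pow_right (by omega) (by omega)
  have h3 : (y + 2) ^ 2 ≤ (y + 2) ^ 4 := Nat.pow_le_pow_right (by omega) (by omega)
  nlinarith

/-- all nonzero vectors in the orbit -/
theorem card_of_all {ι : Type} [Fintype ι] [DecidableEq ι] {F : Type} [Field F] [Fintype F] {P : (ι → F) → Prop}
    (hι : 2 ≤ Fintype.card ι) (hP : ∀ w, w ≠ 0 → P w) :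
    (Fintype.card F) ^ (Fintype.card ι) ≤ (Nat.card {w : ι → F // P w}) ^ 4 := by
  classical
  have hF2 : 2 ≤ Fintype.card F := Fintype.one_lt_card
  have h1 : Nat.card {w : ι → F // w ≠ 0} = (Fintype.card F) ^ (Fintype.card ι) - 1 := by
    rw [Nat.card_eq_fintype_card, Fintype.card_subtype_compl, Fintype.card_fun]
    simp
  have h2 : Nat.card {w : ι → F // w ≠ 0} ≤ Nat.card {w : ι → F // P w} :=
    Nat.card_le_card_of_injective (fun w => ⟨w.1, hP w.1 w.2⟩)
      (fun a b hab => Subtype.ext (congrArg (fun w : {w : ι → F // P w} => w.1) hab))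
  have h3 : 3 ≤ (Fintype.card F) ^ (Fintype.card ι) := by
    calc 3 ≤ 2 ^ 2 := by norm_num
      _ ≤ (Fintype.card F) ^ 2 := Nat.pow_le_pow_left hF2 2
      _ ≤ _ := Nat.pow_le_pow_right (by omega) hι
  calc (Fintype.card F) ^ (Fintype.card ι) ≤ ((Fintype.card F) ^ (Fintype.card ι) - 1) ^ 4 := pow_four_ge h3
    _ ≤ _ := Nat.pow_le_pow_left (h1 ▸ h2) 4

theorem facts_sp (F : Type) [Field F] [Fintype F] (m : ℕ) (hm : 2 ≤ m) (h : m = 2 → 3 ≤ Fintype.card F) :
    Facts (Matrix.symplecticGroup (Fin m) F) (fun x => (x : Matrix (Fin m ⊕ Fin m) (Fin m ⊕ Fin m) F)) where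
  norm := by
    refine norm_of_simple ?_ (S0270.result m hm h)
    refine S0269.result m ?_
    rcases Nat.lt_or_ge 2 m with h1 | h1
    · exact Or.inl h1
    · exact Or.inr (Or.inl ⟨le_antisymm h1 hm, h (le_antisymm h1 hm)⟩)
  col := by
    intro v hv
    refine card_of_all (by rw [Fintype.card_sum, Fintype.card_fin]; omega) fun w hw => ?_
    exact S0271.result m v w hv hw
  row := by
    intro v hv
    refine card_of_all (by rw [Fintype.card_sum, Fintype.card_fin]; omega) fun w hw => ?_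
    obtain ⟨g, hg⟩ := S0271.result m v w hv hw
    refine ⟨⟨(g : Matrix (Fin m ⊕ Fin m) (Fin m ⊕ Fin m) F)ᵀ, SymplecticGroup.transpose_mem g.2⟩, ?_⟩
    change v ᵥ* (g : Matrix (Fin m ⊕ Fin m) (Fin m ⊕ Fin m) F)ᵀ = w
    rw [Matrix.vecMul_transpose]
    exact hg
  cen := by
    intro x hx
    exact cen_of_inj (m := fun x : Matrix.symplecticGroup (Fin m) F => (x : Matrix (Fin m ⊕ Fin m) (Fin m ⊕ Fin m) F))
      Subtype.val_injective (fun _ _ => rfl) x hx

end Sp

section Orth

open Matrix Subgroup QuadraticMap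
open Cfsg.Agent.H254.BS.PI (supp omMat)
open Cfsg.Agent.LieClassical.OrthCore Cfsg.Agent.LieClassical.OrthTrans Cfsg.Agent.LieClassical.OrthFinite
  Cfsg.Agent.LieClassical.OrthForms

section

variable {ι : Type} [Fintype ι] [DecidableEq ι] {F : Type} [Field F]

/-- `Ω(Q)` is perfect -/
theorem omega_perfect {Q : QuadraticForm F (ι → F)} (hG : Good Q) : commutator ↥(Cfsg.Omega F ⇑Q) = ⊤ := by
  have h1 := hG.E_perfect
  rw [← hG.commutator_eq_E, ← map_Omega, ← Subgroup.map_commutator] at h1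
  have h2 : ⁅Cfsg.Omega F ⇑Q, Cfsg.Omega F ⇑Q⁆ = Cfsg.Omega F ⇑Q :=
    Subgroup.map_injective (isometryHom_injective Q) h1
  rw [commutator_def]
  apply Subgroup.map_injective (Subgroup.subtype_injective (Cfsg.Omega F ⇑Q))
  rw [Subgroup.map_commutator, ← MonoidHom.range_eq_map, Subgroup.range_subtype]
  exact h2

theorem omMat_mul (Q : (ι → F) → F) (x y : Cfsg.Omega F Q) : omMat Q (x * y) = omMat Q x * omMat Q y := rfl

theorem omMat_inj (Q : (ι → F) → F) : Function.Injective (omMat Q) := by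
  intro x y h
  exact Subtype.ext (Subtype.ext (Units.ext h))

theorem omMat_inv (Q : (ι → F) → F) (x : Cfsg.Omega F Q) (v : ι → F) :
    omMat Q x *ᵥ (omMat Q x⁻¹ *ᵥ v) = v := by
  rw [Matrix.mulVec_mulVec, ← omMat_mul, mul_inv_cancel]
  exact Matrix.one_mulVec v

theorem omMat_O (Q : QuadraticForm F (ι → F)) (x : Cfsg.Omega F ⇑Q) (v : ι → F) : Q (omMat (⇑Q) x *ᵥ v) = Q v :=
  mem_isometryGroup_iff.1 x.1.2 v

theorem omMat_polar (Q : QuadraticForm F (ι → F)) (x : Cfsg.Omega F ⇑Q) (u v : ι → F) :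
    polar Q (omMat (⇑Q) x *ᵥ u) (omMat (⇑Q) x *ᵥ v) = polar Q u v := by
  rw [QuadraticMap.polar, QuadraticMap.polar, ← Matrix.mulVec_add, omMat_O, omMat_O, omMat_O]

theorem exists_omega {Q : QuadraticForm F (ι → F)} (hG : Good Q) {v w : ι → F} (hv : v ≠ 0) (hw : w ≠ 0)
    (h : Q v = Q w) : ∃ x : Cfsg.Omega F ⇑Q, omMat (⇑Q) x *ᵥ v = w := by
  obtain ⟨g, hg, hgv⟩ := hG.trans_norm hv hw h
  rw [← hG.commutator_eq_E] at hg
  refine ⟨(omegaEquiv Q).symm ⟨g, hg⟩, ?_⟩
  have h1 := omegaEquiv_apply Q ((omegaEquiv Q).symm ⟨g, hg⟩) v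
  rw [MulEquiv.apply_symm_apply] at h1
  rw [← hgv]
  exact h1.symm

/-- the covector of `v` -/
def cov (Q : QuadraticForm F (ι → F)) (v : ι → F) : ι → F := fun i => polar Q v (Pi.single i 1)

theorem polar_eq_sum (Q : QuadraticForm F (ι → F)) (v u : ι → F) : polar Q v u = ∑ i, cov Q v i * u i := by
  have h1 := LinearMap.pi_apply_eq_sum_univ (polarBilin Q v) u
  rw [polarBilin_apply_apply] at h1
  rw [h1]
  refine Finset.sum_congr rfl fun i _ => ?_
  rw [smul_eq_mul, mul_comm, polarBilin_apply_apply, cov]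
  congr 2
  funext j
  rw [Pi.single_apply]
  simp only [eq_comm]

theorem cov_vecMul (Q : QuadraticForm F (ι → F)) (x : Cfsg.Omega F ⇑Q) (v : ι → F) :
    cov Q v ᵥ* omMat (⇑Q) x = cov Q (omMat (⇑Q) x⁻¹ *ᵥ v) := by
  funext j
  have h1 : (cov Q v ᵥ* omMat (⇑Q) x) j = polar Q v (omMat (⇑Q) x *ᵥ Pi.single j 1) := by
    rw [polar_eq_sum]
    simp only [Matrix.vecMul, dotProduct]
    refine Finset.sum_congr rfl fun i _ => ?_
    rw [Matrix.mulVec_single_one]
    rfl
  rw [h1, cov]
  conv_lhs => rw [← omMat_inv (⇑Q) x v]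
  rw [omMat_polar]

theorem cov_bij {Q : QuadraticForm F (ι → F)} (hQ : Nondeg Q) : Function.Bijective (cov Q) := by
  let L : (ι → F) →ₗ[F] (ι → F) :=
    { toFun := cov Q
      map_add' := fun u v => by funext i; simp only [cov, Pi.add_apply, polar_add_left]
      map_smul' := fun c u => by
        funext i; simp only [cov, Pi.smul_apply, polar_smul_left, RingHom.id_apply] }
  have hL : Function.Injective L := by
    rw [← LinearMap.ker_eq_bot, LinearMap.ker_eq_bot']
    intro v hv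
    apply hQ v
    intro y
    rw [polar_eq_sum]
    refine Finset.sum_eq_zero fun i _ => ?_
    have h1 : cov Q v i = 0 := congrFun hv i
    rw [h1, zero_mul]
  exact ⟨hL, LinearMap.injective_iff_surjective.1 hL⟩

theorem card_omega_orbit [Fintype F] {Q : QuadraticForm F (ι → F)} (hG : Good Q) (v : ι → F) (hv : v ≠ 0) :
    (Fintype.card F) ^ (Fintype.card ι) ≤
      (Nat.card {w : ι → F // ∃ x : Cfsg.Omega F ⇑Q, omMat (⇑Q) x *ᵥ v = w}) ^ 4 := by
  classical
  obtain ⟨x, y, hxy⟩ := hG.exists_hyp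
  let L : (ι → F) →ₗ[F] (F × F) := (polarBilin Q x).prod (polarBilin Q y)
  have hLx : ∀ w ∈ LinearMap.ker L, polar Q x w = 0 := fun w hw => congrArg Prod.fst (LinearMap.mem_ker.1 hw)
  have hLy : ∀ w ∈ LinearMap.ker L, polar Q y w = 0 := fun w hw => congrArg Prod.snd (LinearMap.mem_ker.1 hw)
  have hx0 : Q x = 0 := hxy.left
  have hy0 : Q y = 0 := hxy.right
  have hp : polar Q x y = 1 := hxy.pair
  have hp' : polar Q y x = 1 := hxy.pair'
  have key : ∀ w ∈ LinearMap.ker L, Q (x + w + (Q v - Q w) • y) = Q v := by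
    intro w hw
    have h1 := hLx w hw
    have h2 := hLy w hw
    rw [Q_add, Q_add, QuadraticMap.map_smul, polar_add_left, polar_smul_right, polar_smul_right, hx0, hy0, h1, hp,
      polar_comm Q w y, h2]
    simp
  have key0 : ∀ w ∈ LinearMap.ker L, x + w + (Q v - Q w) • y ≠ 0 := by
    intro w hw h
    have h1 : polar Q y (x + w + (Q v - Q w) • y) = 1 := by
      rw [polar_add_right, polar_add_right, polar_smul_right, hp', hLy w hw, polar_self_of_sing hy0]
      simp
    rw [h, polar_zero_right] at h1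
    exact zero_ne_one h1
  have hcard : Nat.card (LinearMap.ker L) ≤ Nat.card {w : ι → F // ∃ x : Cfsg.Omega F ⇑Q, omMat (⇑Q) x *ᵥ v = w} := by
    refine Nat.card_le_card_of_injective (fun w : LinearMap.ker L =>
      (⟨x + w.1 + (Q v - Q w.1) • y, exists_omega hG hv (key0 w.1 w.2) (key w.1 w.2).symm⟩ :
        {w : ι → F // ∃ x : Cfsg.Omega F ⇑Q, omMat (⇑Q) x *ᵥ v = w})) ?_
    intro a b hab
    have h1 : x + a.1 + (Q v - Q a.1) • y = x + b.1 + (Q v - Q b.1) • y := congrArg Subtype.val hab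
    have h2 := congrArg (polar Q x) h1
    rw [polar_add_right, polar_add_right, polar_smul_right, polar_add_right, polar_add_right, polar_smul_right,
      hLx a.1 a.2, hLx b.1 b.2, hp] at h2
    simp only [smul_eq_mul, mul_one] at h2
    have h3 := add_left_cancel h2
    rw [h3] at h1
    exact Subtype.ext (add_left_cancel (add_right_cancel h1))
  have hF1 : 1 ≤ Fintype.card F := Fintype.card_pos
  have hk : (Fintype.card F) ^ (Fintype.card ι) ≤ (Fintype.card F) ^ 2 * Nat.card (LinearMap.ker L) := by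
    have h1 := LinearMap.finrank_range_add_finrank_ker L
    have h2 : Module.finrank F (LinearMap.range L) ≤ 2 := by
      refine (Submodule.finrank_le _).trans ?_
      rw [Module.finrank_prod, Module.finrank_self]
    rw [Module.finrank_fintype_fun_eq_card] at h1
    rw [Module.natCard_eq_pow_finrank (K := F), Nat.card_eq_fintype_card, ← pow_add]
    exact Nat.pow_le_pow_right hF1 (by omega)
  have hN : 5 ≤ Fintype.card ι := by
    have := hG.dim
    rwa [Module.finrank_fintype_fun_eq_card] at this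
  obtain ⟨k, hk'⟩ := Nat.exists_eq_add_of_le hN
  have h4 : (Fintype.card F) ^ (k + 3) ≤ Nat.card (LinearMap.ker L) := by
    have h5 : (Fintype.card F) ^ 2 * (Fintype.card F) ^ (k + 3) ≤ (Fintype.card F) ^ 2 * Nat.card (LinearMap.ker L) := by
      rw [← pow_add, show 2 + (k + 3) = Fintype.card ι by omega]
      exact hk
    exact Nat.le_of_mul_le_mul_left h5 (by positivity)
  calc (Fintype.card F) ^ (Fintype.card ι) ≤ (Fintype.card F) ^ ((k + 3) * 4) := Nat.pow_le_pow_right hF1 (by omega)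
    _ = ((Fintype.card F) ^ (k + 3)) ^ 4 := pow_mul _ _ _
    _ ≤ _ := Nat.pow_le_pow_left (h4.trans hcard) 4

theorem facts_omega [Fintype F] {Q : QuadraticForm F (ι → F)} (hG : Good Q) :
    Facts (Cfsg.Omega F ⇑Q) (omMat ⇑Q) where
  norm := norm_of_simple (omega_perfect hG) (isSimpleGroup_POmega_of_good hG)
  col := card_omega_orbit hG
  row := fun v hv => row_of_col (cov Q) (cov_bij hG.nondeg)
    (by funext i; simp only [cov, polar_zero_left, Pi.zero_apply]) (cov_vecMul Q) (card_omega_orbit hG) v hv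
  cen := fun x hx => cen_of_inj (omMat_inj ⇑Q) (omMat_mul ⇑Q) x hx

end

variable (F : Type) [Field F] [Fintype F]

theorem two_ne_zero_of_odd (ho : Odd (Fintype.card F)) : (2 : F) ≠ 0 := by
  intro h2
  have h3' : CharP F 2 := by
    refine (CharP.charP_iff_prime_eq_zero Nat.prime_two).2 ?_
    exact_mod_cast h2
  have h3 : ringChar F = 2 := ringChar.eq_iff.2 h3'
  have h4 := FiniteField.even_card_iff_char_two.1 h3
  have := Nat.odd_iff.1 ho
  omega

theorem facts_oodd (m : ℕ) (hm : 3 ≤ m) (ho : Odd (Fintype.card F)) :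
    Facts (Cfsg.Omega F (Cfsg.quadFormOdd m F)) (omMat (Cfsg.quadFormOdd m F)) := by
  have hG : Good (oddForm m F) := good_of_finite (nondeg_oddForm m F (two_ne_zero_of_odd F ho)) (by
    rw [Module.finrank_fintype_fun_eq_card, Fintype.card_sum, Fintype.card_sum, Fintype.card_fin, Fintype.card_unit]
    omega)
  have h := facts_omega hG
  rwa [coe_oddForm] at h

theorem facts_oplus (m : ℕ) (hm : 3 ≤ m) :
    Facts (Cfsg.Omega F (Cfsg.quadFormPlus m F)) (omMat (Cfsg.quadFormPlus m F)) := by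
  have hG : Good (plusForm m F) := good_of_finite (nondeg_plusForm m F) (by
    rw [Module.finrank_fintype_fun_eq_card, Fintype.card_sum, Fintype.card_fin]
    omega)
  have h := facts_omega hG
  rwa [coe_plusForm] at h

theorem facts_ominus (m : ℕ) (hm : 3 ≤ m) (a b : F)
    (hab : ∀ z₁ z₂ : F, z₁ ^ 2 + a * z₁ * z₂ + b * z₂ ^ 2 = 0 → z₁ = 0 ∧ z₂ = 0) :
    Facts (Cfsg.Omega F (Cfsg.quadFormMinus (m - 1) F a b)) (omMat (Cfsg.quadFormMinus (m - 1) F a b)) := by
  have hG : Good (minusForm (m - 1) F a b) := good_of_finite (nondeg_minusForm (m - 1) F a b hab) (by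
    rw [Module.finrank_fintype_fun_eq_card, Fintype.card_sum, Fintype.card_sum, Fintype.card_fin, Fintype.card_fin]
    omega)
  have h := facts_omega hG
  rwa [coe_minusForm] at h

end Orth

section SU

open Matrix Subgroup Cfsg
open Cfsg.Agent.H254.BS.PI (supp)
open Cfsg.Agent.LieClassical.HermBasic Cfsg.Agent.LieClassical.HermSiegel Cfsg.Agent.LieClassical.HermGen

variable {F : Type} [Field F] [Fintype F] {q n : ℕ}

theorem card_norm_one_ge (hF : Fintype.card F = q ^ 2) (hn : 3 ≤ n) :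
    q ^ (2 * n - 2) ≤ Nat.card {v : Fin n → F // hermForm n F q v v = 1} := by
  have hq := two_le hF
  rw [Cfsg.Agent.LieClassical.HermCount.card_norm_one hF n]
  obtain ⟨k, rfl⟩ := Nat.exists_eq_add_of_le hn
  have h1 : q ^ (3 + k) = q ^ (2 + k) * q := by rw [show 3 + k = (2 + k) + 1 by ring, pow_succ]
  have h0 : 1 ≤ q ^ (2 + k) := Nat.one_le_pow _ _ (by omega)
  have h2 : q ^ (2 + k) ≤ q ^ (3 + k) - 1 := by
    rw [h1]
    have : q ^ (2 + k) * 2 ≤ q ^ (2 + k) * q := Nat.mul_le_mul_left _ hq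
    omega
  have h3 : 2 * (3 + k) - 2 = (2 + k) + (2 + k) := by omega
  rw [h3, pow_add, show 3 + k - 1 = 2 + k by omega]
  split_ifs with he
  · exact Nat.mul_le_mul_left _ h2
  · exact Nat.mul_le_mul_left _ (by omega)

theorem card_isotropic_ge (hF : Fintype.card F = q ^ 2) (hn : 3 ≤ n) :
    q ^ (2 * n - 2) ≤ Nat.card {v : Fin n → F // v ≠ 0 ∧ hermForm n F q v v = 0} := by
  classical
  have hq := two_le hF
  have h := Cfsg.Agent.LieClassical.HermCount.card_isotropic hF n
  have h00 : hermForm n F q 0 0 = 0 := herm_zero_left 0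
  have h5 : Nat.card {v : Fin n → F // hermForm n F q v v = 0} =
      Nat.card {v : Fin n → F // v ≠ 0 ∧ hermForm n F q v v = 0} + 1 := by
    rw [Nat.card_eq_fintype_card, Nat.card_eq_fintype_card, Fintype.card_subtype, Fintype.card_subtype]
    have h6 : (Finset.univ.filter fun v : Fin n → F => hermForm n F q v v = 0) =
        insert 0 (Finset.univ.filter fun v : Fin n → F => v ≠ 0 ∧ hermForm n F q v v = 0) := by
      ext v
      simp only [Finset.mem_filter, Finset.mem_univ, true_and, Finset.mem_insert]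
      constructor
      · intro hv
        by_cases h0 : v = 0
        · exact Or.inl h0
        · exact Or.inr ⟨h0, hv⟩
      · rintro (rfl | h)
        · exact h00
        · exact h.2
    rw [h6, Finset.card_insert_of_notMem (by simp)]
  rw [h5] at h
  have h7 := Nat.add_right_cancel h
  rw [h7]
  obtain ⟨k, rfl⟩ := Nat.exists_eq_add_of_le hn
  have h1 : q ^ (3 + k) = q ^ (2 + k) * q := by rw [show 3 + k = (2 + k) + 1 by ring, pow_succ]
  have h0 : 1 ≤ q ^ (2 + k) := Nat.one_le_pow _ _ (by omega)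
  have h2 : q ^ (2 + k) ≤ q ^ (3 + k) - 1 := by
    rw [h1]
    have : q ^ (2 + k) * 2 ≤ q ^ (2 + k) * q := Nat.mul_le_mul_left _ hq
    omega
  have h1' : q ^ (2 + k) = q ^ (1 + k) * q := by rw [show 2 + k = (1 + k) + 1 by ring, pow_succ]
  have h0' : 1 ≤ q ^ (1 + k) := Nat.one_le_pow _ _ (by omega)
  have h2' : q ^ (1 + k) ≤ q ^ (2 + k) - 1 := by
    rw [h1']
    have : q ^ (1 + k) * 2 ≤ q ^ (1 + k) * q := Nat.mul_le_mul_left _ hq
    omega
  rw [show 3 + k - 1 = 2 + k by omega]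
  split_ifs with he
  · calc q ^ (2 * (3 + k) - 2) = q ^ (2 + k) * q ^ (2 + k) := by rw [← pow_add]; congr 1; omega
      _ ≤ _ := Nat.mul_le_mul h2 (Nat.le_succ _)
  · calc q ^ (2 * (3 + k) - 2) = q ^ (3 + k) * q ^ (1 + k) := by rw [← pow_add]; congr 1; omega
      _ ≤ _ := Nat.mul_le_mul (Nat.le_succ _) h2'

theorem su_orbit_iso (hF : Fintype.card F = q ^ 2) (hn : 3 ≤ n) (v : Fin n → F) (hv : v ≠ 0)
    (h0 : hermForm n F q v v = 0) :
    q ^ (2 * n - 2) ≤ Nat.card {w : Fin n → F // ∃ x : SU n F q, act x v = w} := by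
  refine (card_isotropic_ge hF hn).trans ?_
  refine Nat.card_le_card_of_injective
    (fun w : {v : Fin n → F // v ≠ 0 ∧ hermForm n F q v v = 0} =>
      (⟨w.1, ?_⟩ : {w : Fin n → F // ∃ x : SU n F q, act x v = w})) ?_
  · obtain ⟨g, -, hg⟩ := exists_map_iso hF hn le_rfl (mem_coordSub_top v) (mem_coordSub_top w.1) hv w.2.1 h0 w.2.2
    exact ⟨g, hg⟩
  · intro a b hab
    exact Subtype.ext (congrArg (fun w : {w : Fin n → F // ∃ x : SU n F q, act x v = w} => w.1) hab)

open Cfsg.Agent.LieClassical.GUOrder (detGU card_ker_pow range_detGU exists_gu_map finite_GU kerEquiv coe_detGU) in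
theorem su_orbit_one (hF : Fintype.card F = q ^ 2) (hn : 3 ≤ n) (v : Fin n → F) (h1 : hermForm n F q v v = 1) :
    q ^ (2 * n - 2) ≤ (q + 1) * Nat.card {w : Fin n → F // ∃ x : SU n F q, act x v = w} := by
  classical
  refine (card_norm_one_ge hF hn).trans ?_
  -- representatives of the determinants
  have hs : ∀ r : (detGU n F q).range, ∃ g : GU n F q, detGU n F q g = r.1 := fun r => r.2
  choose h hh using hs
  have ht : ∀ y : {v : Fin n → F // hermForm n F q v v = 1},
      ∃ g : GU n F q, ((g : GL (Fin n) F) : Matrix (Fin n) (Fin n) F) *ᵥ v = y.1 :=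
    fun y => exists_gu_map hF h1 y.2
  choose g hg using ht
  let r : {v : Fin n → F // hermForm n F q v v = 1} → (detGU n F q).range := fun y => ⟨detGU n F q (g y), ⟨_, rfl⟩⟩
  have hker : ∀ y, (h (r y))⁻¹ * g y ∈ (detGU n F q).ker := by
    intro y
    rw [MonoidHom.mem_ker, map_mul, map_inv, hh]
    exact inv_mul_cancel _
  have hcard : Nat.card (detGU n F q).range = q + 1 := by
    rw [range_detGU hF (by omega), card_ker_pow hF]
  rw [← hcard, ← Nat.card_prod]
  have hf : Finite (detGU n F q).range := inferInstance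
  refine Nat.card_le_card_of_injective
    (fun y : {v : Fin n → F // hermForm n F q v v = 1} =>
      ((r y, ⟨((((h (r y))⁻¹ * g y : GU n F q) : GL (Fin n) F) : Matrix (Fin n) (Fin n) F) *ᵥ v,
        ⟨kerEquiv n ⟨_, hker y⟩, rfl⟩⟩) :
        (detGU n F q).range × {w : Fin n → F // ∃ x : SU n F q, act x v = w})) ?_
  intro a b hab
  have e1 : r a = r b := congrArg Prod.fst hab
  have e2 : ((((h (r a))⁻¹ * g a : GU n F q) : GL (Fin n) F) : Matrix (Fin n) (Fin n) F) *ᵥ v =
      ((((h (r b))⁻¹ * g b : GU n F q) : GL (Fin n) F) : Matrix (Fin n) (Fin n) F) *ᵥ v :=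
    congrArg (fun z : (detGU n F q).range × {w : Fin n → F // ∃ x : SU n F q, act x v = w} => z.2.1) hab
  rw [Subgroup.coe_mul, Subgroup.coe_mul, Units.val_mul, Units.val_mul, ← Matrix.mulVec_mulVec,
    ← Matrix.mulVec_mulVec, hg, hg, e1] at e2
  have e3 := congrArg (fun w => (((h (r b) : GU n F q) : GL (Fin n) F) : Matrix (Fin n) (Fin n) F) *ᵥ w) e2
  simp only [Matrix.mulVec_mulVec] at e3
  rw [← Units.val_mul, ← Subgroup.coe_mul, mul_inv_cancel, Subgroup.coe_one, Units.val_one, Matrix.one_mulVec,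
    Matrix.one_mulVec] at e3
  exact Subtype.ext e3

theorem su_orbit (hF : Fintype.card F = q ^ 2) (hn : 3 ≤ n) (v : Fin n → F) (hv : v ≠ 0) :
    (Fintype.card F) ^ (Fintype.card (Fin n)) ≤ (Nat.card {w : Fin n → F // ∃ x : SU n F q, act x v = w}) ^ 4 := by
  have hq := two_le hF
  have key : q ^ (2 * n - 4) ≤ Nat.card {w : Fin n → F // ∃ x : SU n F q, act x v = w} := by
    by_cases h0 : hermForm n F q v v = 0
    · exact (Nat.pow_le_pow_right (by omega) (by omega)).trans (su_orbit_iso hF hn v hv h0)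
    · obtain ⟨c, hc0, hc⟩ := exists_norm_eq_ne hF (c := (hermForm n F q v v)⁻¹)
        (by rw [inv_pow, herm_self_pow hF]) (inv_ne_zero h0)
      have h1 : hermForm n F q (c • v) (c • v) = 1 := by
        rw [herm_smul_left, herm_smul_right, ← mul_assoc, hc, inv_mul_cancel₀ h0]
      have h2 := su_orbit_one hF hn (c • v) h1
      have h3 : Nat.card {w : Fin n → F // ∃ x : SU n F q, act x (c • v) = w} ≤
          Nat.card {w : Fin n → F // ∃ x : SU n F q, act x v = w} := by
        refine Nat.card_le_card_of_injective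
          (fun w : {w : Fin n → F // ∃ x : SU n F q, act x (c • v) = w} =>
            (⟨c⁻¹ • w.1, by
              obtain ⟨x, hx⟩ := w.2
              exact ⟨x, by rw [← hx, act_smul, smul_smul, inv_mul_cancel₀ hc0, one_smul]⟩⟩ :
              {w : Fin n → F // ∃ x : SU n F q, act x v = w})) ?_
        intro a b hab
        have e : c⁻¹ • a.1 = c⁻¹ • b.1 := congrArg Subtype.val hab
        exact Subtype.ext (smul_right_injective _ (inv_ne_zero hc0) e)
      have h4 : (q + 1) * q ^ (2 * n - 4) ≤ (q + 1) * Nat.card {w : Fin n → F // ∃ x : SU n F q, act x v = w} := by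
        calc (q + 1) * q ^ (2 * n - 4) ≤ q ^ 2 * q ^ (2 * n - 4) := by
              apply Nat.mul_le_mul_right
              nlinarith
          _ = q ^ (2 * n - 2) := by rw [← pow_add]; congr 1; omega
          _ ≤ _ := h2.trans (Nat.mul_le_mul_left _ h3)
      exact Nat.le_of_mul_le_mul_left h4 (by omega)
  calc (Fintype.card F) ^ (Fintype.card (Fin n)) = q ^ (2 * n) := by rw [hF, Fintype.card_fin, ← pow_mul]
    _ ≤ q ^ ((2 * n - 4) * 4) := Nat.pow_le_pow_right (by omega) (by omega)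
    _ = (q ^ (2 * n - 4)) ^ 4 := pow_mul _ _ _
    _ ≤ _ := Nat.pow_le_pow_left key 4

theorem su_row (_hF : Fintype.card F = q ^ 2) (x : SU n F q) (v : Fin n → F) :
    (fun i => v i ^ q) ᵥ* mat x = fun i => (act x⁻¹ v) i ^ q := by
  funext j
  have h1 : ((fun i => v i ^ q) ᵥ* mat x) j = hermForm n F q (act x (Pi.single j 1)) v := by
    rw [herm_def]
    simp only [Matrix.vecMul, dotProduct]
    refine Finset.sum_congr rfl fun i _ => ?_
    rw [act_single, mul_comm]
  rw [h1, herm_act_left, herm_single_left, one_mul]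

theorem facts_su (F : Type) [Field F] [Fintype F] (n q : ℕ) (hF : Fintype.card F = q ^ 2) (hn : 3 ≤ n)
    (h : ¬ (n = 3 ∧ q = 2)) : Facts (Cfsg.SU n F q)
      (fun x => ((x : Matrix.SpecialLinearGroup (Fin n) F) : Matrix (Fin n) (Fin n) F)) where
  norm := fun N hN => by
    by_cases h1 : N ≤ Subgroup.center (Cfsg.SU n F q)
    · exact Or.inl h1
    · exact Or.inr (Cfsg.Agent.LieClassical.HermPerfect.normal_eq_top hF hn h h1)
  col := su_orbit hF hn
  row := fun v hv => row_of_col (M := Cfsg.SU n F q) (m := mat) (fun v i => v i ^ q)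
    ⟨fun a b hab => by
        funext i
        exact (pow_q_inj hF).1 (congrFun hab i),
      fun b => ⟨fun i => b i ^ q, by funext i; exact pow_q_pow_q hF (b i)⟩⟩
    (by funext i; exact zero_pow_q hF) (su_row hF) (su_orbit hF hn) v hv
  cen := fun x hx => cen_of_inj (M := Cfsg.SU n F q) (m := mat) mat_injective mat_mul x hx

end SU

section Final

open Matrix
open Cfsg.Agent.H254.BS.PI (supp omMat)
open Cfsg.Agent.H917.FP (LongOrb)

variable {M : Type} [Group M] {ι : Type} [Fintype ι] [DecidableEq ι] {F : Type} [Field F] [Fintype F]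
  {m : M →* Matrix ι ι F}

theorem Facts.norm' (h : Facts M m) (N : Subgroup M) (hN : N.Normal) (hc : ¬ N ≤ Subgroup.center M) : N = ⊤ :=
  (h.norm N hN).resolve_left hc

theorem Facts.supp_ne (h : Facts M m) (x : M) (hx : x ∉ Subgroup.center M) : supp (m x) ≠ 0 :=
  fun h0 => hx (h.cen x h0)

theorem Facts.long (h : Facts M m) : ∃ D : ℕ, 0 < D ∧ LongOrb D m ∧ (Fintype.card F) ^ (Fintype.card ι) ≤ D ^ 4 := by
  classical
  have hex : ∃ D : ℕ, (Fintype.card F) ^ (Fintype.card ι) ≤ D ^ 4 :=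
    ⟨(Fintype.card F) ^ (Fintype.card ι), Nat.le_self_pow (by norm_num) _⟩
  refine ⟨Nat.find hex, ?_, ⟨?_, ?_⟩, Nat.find_spec hex⟩
  · rw [Nat.pos_iff_ne_zero]
    intro h0
    have h1 := Nat.find_spec hex
    rw [h0] at h1
    have h2 : 1 ≤ (Fintype.card F) ^ (Fintype.card ι) := Nat.one_le_pow _ _ Fintype.card_pos
    omega
  · intro v hv
    exact Nat.find_min' hex (h.col v hv)
  · intro v hv
    exact Nat.find_min' hex (h.row v hv)

/-- `Sp_{2m}(F)` as matrices -/
def spHom (m : ℕ) (F : Type) [Field F] :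
    Matrix.symplecticGroup (Fin m) F →* Matrix (Fin m ⊕ Fin m) (Fin m ⊕ Fin m) F where
  toFun x := (x : Matrix (Fin m ⊕ Fin m) (Fin m ⊕ Fin m) F)
  map_one' := rfl
  map_mul' _ _ := rfl

/-- `SU_n(q)` as matrices -/
def suHom (n : ℕ) (F : Type) [Field F] (q : ℕ) : Cfsg.SU n F q →* Matrix (Fin n) (Fin n) F where
  toFun x := ((x : Matrix.SpecialLinearGroup (Fin n) F) : Matrix (Fin n) (Fin n) F)
  map_one' := rfl
  map_mul' _ _ := rfl

/-- `Ω(Q)` as matrices -/
def omHom {ι : Type} [Fintype ι] [DecidableEq ι] {F : Type} [Field F] (Q : (ι → F) → F) :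
    Cfsg.Omega F Q →* Matrix ι ι F where
  toFun x := omMat Q x
  map_one' := rfl
  map_mul' _ _ := rfl

theorem spHom_inj (m : ℕ) (F : Type) [Field F] : Function.Injective (spHom m F) := Subtype.val_injective

theorem suHom_inj (n : ℕ) (F : Type) [Field F] (q : ℕ) : Function.Injective (suHom n F q) :=
  fun _ _ h => Subtype.ext (Subtype.ext h)

theorem omHom_inj {ι : Type} [Fintype ι] [DecidableEq ι] {F : Type} [Field F] (Q : (ι → F) → F) :
    Function.Injective (omHom Q) := omMat_inj Q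

end Final

end Cfsg.Agent.H847.BSF
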